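import Groth.Agent.TwistEmbedLib.Sections
import Groth.Agent.GrassLib.SchBase
import Groth.Agent.ProjPtsLib.Basic
import Groth.Agent.AmpleDescLib.Main
import Groth.Agent.KSModLib.Isotypical

/-!
# Embeddings by twisting sheaves of splittings
-/

set_option autoImplicit false
set_option linter.style.haveILetI false
set_option backward.isDefEq.respectTransparency false
set_option backward.isDefEq.respectTransparency.types false
set_option maxHeartbeats 1000000
universe u

open CategoryTheory CategoryTheory.Limits AlgebraicGeometry TopologicalSpace Opposite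
open HomogeneousLocalization
open AmpleLib
open AmpleThLib
open TwistLib (genSet)
open KFlatLib (pb puSec)
open W4c1astiltbs12 (pow)
open GLinBCLib

noncomputable section

namespace TwistEmbed

/-- Sections with generating ratios define a closed immersion. -/
theorem exists_closedImmersion {X : Scheme.{u}} {R : Type u} [CommRing R] (q : X ⟶ Spec (CommRingCat.of R))
    [IsProper q] {L : X.Modules} (hL : PicF.IsInvertible L) {m : ℕ} (v : Fin (m + 1) → Γ(L, ⊤))
    (hgen : ∀ j, RatioGen q hL v j) (hA : CohB1.IsAmple L) (hcov : ∀ x : X, ∃ j, x ∈ genSet hL (v j)) :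
    ∃ r : X ⟶ Proj (CohB1.polyGrading m R), IsClosedImmersion r ∧ r ≫ baseA (CohB1.polyGrading m R) = q ∧
      Nonempty ((Scheme.Modules.pullback r).obj (Twist.twist (CohB1.polyGrading m R) ((1 : ℕ) : ℤ)) ≅ L) := by
  obtain ⟨r, hrb, hpre, hcoef, hτ⟩ := GenusZeroLib.exists_toPA_iso q hL v hcov
  let p := baseA (CohB1.polyGrading m R)
  have : IsProper (r ≫ p) := by rw [hrb]; infer_instance
  have : IsSeparated p := by simp only [p, baseA]; infer_instance
  have : IsProper r := IsProper.of_comp r p
  refine ⟨r, ?_, hrb, hτ⟩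
  have : IsImmersion r := by
    refine isImmersion_of_local r
      (fun j => Proj.basicOpen (CohB1.polyGrading m R) (MvPolynomial.X j)) (fun x => ?_) (fun j => ?_)
    · obtain ⟨j, hx⟩ := hcov x
      exact ⟨j, (hpre j).ge hx⟩
    · let D := Proj.basicOpen (CohB1.polyGrading m R) (MvPolynomial.X j)
      have : IsAffine (r ⁻¹ᵁ D).toScheme := (hpre j).symm ▸ CurveAmpLib.isAffineOpen_genSet q hL hA (v j)
      have : IsAffine D.toScheme :=
        Proj.isAffineOpen_basicOpen _ _ (MvPolynomial.isHomogeneous_X R j) one_pos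
      refine IsClosedImmersion.of_surjective_of_isAffine _ ?_
      rw [Scheme.Hom.appTop, morphismRestrict_app']
      refine surjective_appLE_congr r D.ι_image_top.symm
        ((hpre j).symm.trans (Scheme.Opens.ι_image_top _).symm) (hpre j).ge _ ?_
      intro a
      suffices h : a ∈ (r.appLE D _ (hpre j).ge).hom.range from h
      refine (show Subring.closure _ ≤ _ from Subring.closure_le.mpr ?_) ((hgen j).ge (Subring.mem_top a))
      rintro _ (⟨y, rfl⟩ | ⟨l, hl⟩)
      · refine ⟨p.appLE ⊤ D le_top y, ?_⟩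
        rw [← CommRingCat.comp_apply, Scheme.Hom.appLE_comp_appLE]
        simp only [p, hrb]
      · refine ⟨Proj.awayToSection (CohB1.polyGrading m R) (MvPolynomial.X j)
          (TwistLib.frac (CohB1.polyGrading m R) (MvPolynomial.isHomogeneous_X R j)
            (MvPolynomial.isHomogeneous_X R l)), ?_⟩
        refine (TwistLib.genSet_genOn hL (v j) _ le_rfl).1 ?_
        dsimp only
        rw [res_res, hl]
        have h1 := congrArg (res _ (hpre j).ge) (hcoef j l)
        rw [res_smul, res_res, res_res] at h1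
        refine Eq.trans ?_ h1
        congr 1
  exact IsClosedImmersion.of_isPreimmersion r r.isClosedMap.isClosed_range

/-- An invertible module which is ample after pullback to projective space by forms of positive degree. -/
theorem isAmple_twist {K : Type u} [Field K] {n d : ℕ} (hd : 0 < d) :
    CohB1.IsAmple (Twist.twist (CohB1.polyGrading n K) (d : ℤ)) := by
  haveI : IsProper (CohB1.ProjSpace.toSpec n K) := by
    obtain ⟨q, hq, -⟩ := PicPnLib.exists_map n K
    exact MorphismProperty.of_isPullback hq (ChowLib.isProper_toSpec n)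
  haveI : CompactSpace (CohB1.ProjSpace n K) :=
    QuasiCompact.compactSpace_of_compactSpace (CohB1.ProjSpace.toSpec n K)
  refine (AmpleThLib.isAmple_iff (hL := twist_invertible)).mpr ⟨‹CompactSpace (CohB1.ProjSpace n K)›, fun x => ?_⟩
  obtain ⟨l, hl⟩ := exists_genSet_mem (fun a : CohB1.polyGrading n K d => a)
    (by rw [Set.range_id']; exact Submodule.span_univ) x
  exact ⟨1, _, one_pos, ⟨AmpleThLib.pS (gsec l) 1, AmpleThLib.genSet_pS twist_invertible _ one_pos⟩, hl,
    isAffineOpen_genSet_gsec hd l⟩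

/-- The complete linear system of a descent of `O(d)` is a closed immersion. -/
theorem exists_embedding {k : Type u} [Field k] {X : Scheme.{u}} (f : X ⟶ Spec (CommRingCat.of k)) [IsProper f]
    {K : Type u} [Field K] [Algebra k K] [FiniteDimensional k K] {m : ℕ} (e : BrSev.Splitting f K m)
    {d : ℕ} (hd : 0 < d) {L : X.Modules} (hL : PicF.IsInvertible L) (hLt : BrSev.IsTwPow e (d : ℤ) 1 L) :
    ∃ (N : ℕ) (ρ : X ⟶ CohB1.ProjSpace N k), N + 1 = (m + d).choose d ∧ IsClosedImmersion ρ ∧
      ρ ≫ CohB1.ProjSpace.toSpec N k = f ∧ Nonempty (pb ρ (Twist.twistProjSpace N k 1) ≅ L) := by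
  classical
  let β : BC k K X (BrSev.bc f K) := KSMod.bcSq f K
  haveI : IsProper β.iX := ‹IsProper f›
  haveI : IsLocallyNoetherian X := LocallyOfFiniteType.isLocallyNoetherian f
  haveI : Coh.IsQCoh L := TwistLib.isQCoh_of_isInvertible hL
  have hLc := Groth.Agent.PerfLib.isCoh_of_isFinLocFree (AmpleDevLib.isFinLocFree_of_isInvertible hL)
  obtain ⟨N', v', hspan', hind'⟩ := exists_sections_basis β hLc
  obtain ⟨t⟩ := hLt
  let O := Twist.twist (CohB1.polyGrading m K) (d : ℤ)
  let h : BrSev.bc f K ⟶ CohB1.ProjSpace m K := e.iso.hom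
  let φ : pb h O ≅ pb β.g L := (t ≪≫ coproductUniqueIso (fun _ : Fin 1 => e.twist (d : ℤ))).symm
  let M := pb β.g L
  letI : Module K Γ(M, ⊤) := Module.compHom _ (β.cY ⊤)
  have hto : ∀ r : K, h.app ⊤ (show Γ(CohB1.ProjSpace m K, ⊤) from Coh.toGlobal (CohB1.ProjSpace.toSpec m K) r) =
      β.cY ⊤ r := by
    intro r
    show (h.app ⊤) ((CohB1.ProjSpace.toSpec m K).appTop ((Scheme.ΓSpecIso (CommRingCat.of K)).inv r)) =
      β.iY.appLE ⊤ ⊤ le_top ((Scheme.ΓSpecIso (CommRingCat.of K)).inv r)
    rw [← CommRingCat.comp_apply]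
    have hc : e.iso.hom ≫ CohB1.ProjSpace.toSpec m K = β.iY := e.comm
    rw [Scheme.Hom.appLE, ← hc]
    simp [Scheme.Hom.appTop]
    rfl
  let Ψ : CohB1.polyGrading m K d →ₗ[K] Γ(M, ⊤) :=
    { toFun := fun a => φ.hom.app ⊤ (show Γ(pb h O, ⊤) from puSec h (gsec a))
      map_add' := fun a b => by
        show φ.hom.app ⊤ (show Γ(pb h O, ⊤) from puSec h (gsec (a + b))) = _
        rw [gsec_add, ← map_add]
        exact congrArg (φ.hom.app ⊤) (map_add (((Scheme.Modules.pullbackPushforwardAdjunction h).unit.app O).app ⊤).hom _ _)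
      map_smul' := fun r a => by
        show φ.hom.app ⊤ (show Γ(pb h O, ⊤) from puSec h (gsec (r • a))) =
          β.cY ⊤ r • φ.hom.app ⊤ (show Γ(pb h O, ⊤) from puSec h (gsec a))
        refine (congrArg (fun z : Γ(O, ⊤) => φ.hom.app ⊤ (show Γ(pb h O, ⊤) from puSec h z)) (ProjSecLib.globalOf_smul r a)).trans ?_
        refine Eq.trans ?_ (Scheme.Modules.Hom.app_smul φ.hom _ _)
        refine congrArg (φ.hom.app ⊤) ((TwistLib.puSec_smul h _ _).trans ?_)
        rw [hto] }
  have hΨ : Function.Bijective Ψ := by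
    refine (ConcreteCategory.bijective_of_isIso (φ.hom.app ⊤)).comp ?_
    exact (GrassSch.puSec_bijective h O (W := ⊤) (by simp [Scheme.Hom.opensRange_of_isIso])).comp
      ⟨ProjSecLib.globalOf_injective, fun z => ProjSecLib.globalOf_surjective z⟩
  let Φ := LinearEquiv.ofBijective Ψ hΨ
  let w : Fin N' → Γ(M, ⊤) := fun l => puSec β.g (v' l)
  have hwspan : Submodule.span K (Set.range w) = ⊤ := by
    refine eq_top_iff.2 fun z _ => ?_
    obtain ⟨a, ha⟩ := span_puSec β hspan' z
    exact (Submodule.mem_span_range_iff_exists_fun K).2 ⟨a, ha.symm⟩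
  have hwind : LinearIndependent K w := Fintype.linearIndependent_iff.2 fun a ha =>
    congrFun (indep_puSec β hind' a ha)
  have hN' : N' = (m + d).choose d := by
    have h1 := (Module.Basis.mk hwind hwspan.ge).map Φ.symm |> Module.finrank_eq_card_basis
    rw [Fintype.card_fin] at h1
    rw [← h1]
    exact (Groth.Agent.ProjPtsLib.finrank_homogeneous (k := K) (r := m + 1) d).trans (by rw [show m + 1 + d - 1 = m + d by omega])
  obtain ⟨N, hN⟩ : ∃ N, N' = N + 1 := Nat.exists_eq_succ_of_ne_zero (by
    rw [hN']; exact (Nat.choose_pos (by omega)).ne')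
  subst hN
  let a : Fin (N + 1) → CohB1.polyGrading m K d := fun l => Φ.symm (w l)
  have haspan : Submodule.span K (Set.range a) = ⊤ := by
    rw [show a = Φ.symm ∘ w from rfl, Set.range_comp, ← LinearEquiv.coe_coe, ← Submodule.map_span, hwspan,
      Submodule.map_top, LinearEquiv.range]
  have hwa : ∀ l, (puSec β.g (v' l) : Γ(M, ⊤)) = φ.hom.app ⊤ (show Γ(pb h O, ⊤) from puSec h (gsec (a l))) :=
    fun l => (Φ.apply_symm_apply (w l)).symm
  have hMi : PicF.IsInvertible M := AmpleDevLib.isInvertible_pb β.g hL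
  have hgs : ∀ l, genSet hMi (puSec β.g (v' l) : Γ(M, ⊤)) = h ⁻¹ᵁ genSet twist_invertible (gsec (a l)) := by
    intro l
    rw [hwa, AmpleThLib.genSet_iso (AmpleDevLib.isInvertible_pb h twist_invertible) hMi φ]
    exact AmpleDevLib.genSet_puSec h twist_invertible _
  haveI : Surjective β.g := β.surjective_g
  haveI : IsFinite β.g := by
    haveI : IsFinite (Spec.map (CommRingCat.ofHom (algebraMap k K))) := by
      rw [IsFinite.SpecMap_iff]
      exact RingHom.finite_algebraMap.mpr inferInstance
    exact MorphismProperty.of_isPullback β.sq.flip this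
  have hA : CohB1.IsAmple L := by
    refine AmpleDescLib.isAmple_of_isAmple_pullback f β.g hL ?_
    haveI : IsAffineHom h := inferInstance
    exact AmpleDevLib.isAmple_of_iso (AmpleDevLib.isInvertible_pb h twist_invertible) hMi φ
      (AmpleDevLib.isAmple_pb h twist_invertible (isAmple_twist hd))
  have hgen : ∀ j, RatioGen f hL v' j := fun j => by
    refine RatioGen.descend β rfl (CurveAmpLib.isAffineOpen_genSet f hL hA (v' j)) ?_
    exact (ratioGen_proj hd a haspan j).transfer (qY := β.iY) (r := h) e.comm hMi φ hwa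
      (ConcreteCategory.bijective_of_isIso _).2
  have hcov : ∀ x : X, ∃ j, x ∈ genSet hL (v' j) := fun x => by
    obtain ⟨y, rfl⟩ := β.g.surjective x
    obtain ⟨j, hj⟩ := exists_genSet_mem a haspan (h y)
    exact ⟨j, (AmpleDevLib.genSet_puSec β.g hL (v' j)).le ((hgs j).ge hj)⟩
  obtain ⟨r, hr, hrf, hrL⟩ := exists_closedImmersion f hL v' hgen hA hcov
  exact ⟨N, r, hN', hr, hrf, hrL⟩

end TwistEmbed
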