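import Groth.Agent.TwistEmbedLib.Main
import Groth.Agent.SBTautLib.Exist
import Groth.Agent.SBTautLib.Proper
import Groth.Agent.ProjConstLib.Main
import Groth.Agent.AbSchLib.DimFinite
import Groth.Agent.GenusZeroLib.PSpace
import Mathlib.RingTheory.LittleWedderburn

/-!
# Severi–Brauer varieties over finite fields are split
-/

set_option autoImplicit false
set_option linter.style.haveILetI false
universe u

noncomputable section

open CategoryTheory CategoryTheory.Limits AlgebraicGeometry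
open W4c1astiltbs12 (pow)
open KFlatLib (pb)

namespace TwistEmbed

attribute [local instance] Abelian.hasFiniteBiproducts

variable {k : Type u} [Field k]

/-- Endomorphisms of a twisting sheaf of a splitting are scalars. -/
theorem bijective_smul_twist {X : Scheme.{u}} {f : X ⟶ Spec (CommRingCat.of k)} [IsProper f] {K : Type u} [Field K]
    [Algebra k K] {n : ℕ} (e : BrSev.Splitting f K n) (j : ℤ) [(BrSev.bc f K).Over (Spec (CommRingCat.of K))]
    (hY : BrSev.bc f K ↘ Spec (CommRingCat.of K) = BrSev.bcTo f K) :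
    Function.Bijective fun a : K => a • 𝟙 (e.twist j) := by
  haveI : IsIntegral (CohB1.ProjSpace n K) := PicPnLib.isIntegral_projSpace n K
  haveI : Nonempty (BrSev.bc f K) := ⟨e.iso.inv (Classical.arbitrary _)⟩
  haveI : IsIntegral (BrSev.bc f K) := isIntegral_of_isOpenImmersion e.iso.hom
  haveI : IsProper (BrSev.bcTo f K) := MorphismProperty.pullback_snd _ _ ‹IsProper f›
  have hL := KSMod.isInvertible_twist e j
  have hL0 : (𝟙 (e.twist j) : e.twist j ⟶ e.twist j) ≠ 0 :=
    fun h => KSMod.not_isZero_invertible hL ((IsZero.iff_id_eq_zero _).2 h)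
  refine ⟨fun a a' h => ?_, fun φ => ?_⟩
  · have h' : (a - a') • 𝟙 (e.twist j) = 0 := by rw [sub_smul]; exact sub_eq_zero.2 h
    exact sub_eq_zero.1 ((smul_eq_zero.1 h').resolve_right hL0)
  · obtain ⟨c, hc⟩ := AVThetaLib.exists_eq_smulHom hL φ
    obtain ⟨w, hw⟩ := ProjConstLib.exists_point (k := K) (n := n)
    have hws : (w ≫ e.iso.inv) ≫ BrSev.bcTo f K = 𝟙 _ := by
      rw [Category.assoc, ← e.comm, Iso.inv_hom_id_assoc, hw]
    let r : Γ(BrSev.bc f K, ⊤) →+* K :=
      ((w ≫ e.iso.inv).appTop ≫ (Scheme.ΓSpecIso (CommRingCat.of K)).hom).hom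
    letI := (isField_of_universallyClosed K (BrSev.bcTo f K)).toField
    let a := r c
    have ha : (Scheme.ΓSpecIso (CommRingCat.of K)).inv a = (w ≫ e.iso.inv).appTop c :=
      Iso.hom_inv_id_apply (Scheme.ΓSpecIso (CommRingCat.of K)) _
    have hca : (BrSev.bcTo f K).appTop ((Scheme.ΓSpecIso (CommRingCat.of K)).inv a) = c := by
      refine r.injective ?_
      show (Scheme.ΓSpecIso (CommRingCat.of K)).hom ((w ≫ e.iso.inv).appTop _) = r c
      rw [← CommRingCat.comp_apply (BrSev.bcTo f K).appTop, ← Scheme.Hom.comp_appTop, hws, Scheme.Hom.id_appTop]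
      exact Iso.inv_hom_id_apply (Scheme.ΓSpecIso (CommRingCat.of K)) a
    refine ⟨a, ?_⟩
    rw [hc]
    refine Scheme.Modules.hom_ext _ _ fun U => ConcreteCategory.hom_ext _ _ fun m => ?_
    show (a • 𝟙 (e.twist j)).app U m = (StabLib.smulHom (e.twist j) c).app U m
    rw [KLin.smul_app_apply, StabLib.smulHom_app]
    congr 1
    rw [← hca, ← hY]
    rfl

theorem finrank_eq_one_of_indec {A : Type*} [Ring A] [Algebra k A] [Finite k] [FiniteDimensional k A]
    [Algebra.IsCentral k A] [IsSimpleRing A] (h : ∀ e : A, IsIdempotentElem e → e = 0 ∨ e = 1) :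
    Module.finrank k A = 1 := by
  haveI : IsArtinianRing A := IsArtinianRing.of_finite k A
  have hJ : Ring.jacobson A = ⊥ := by
    haveI : IsSemisimpleRing A := inferInstance
    exact IsSemisimpleRing.jacobson_eq_bot A
  have hu : ∀ a : A, a ≠ 0 → IsUnit a := fun a ha => by
    by_contra hn
    exact ha ((Submodule.mem_bot A).1 (hJ ▸ KSMod.nonunit_mem_jacobson (k := k) h hn))
  haveI : NoZeroDivisors A := ⟨fun {a b} hab => or_iff_not_imp_left.2 fun ha => by
    obtain ⟨u, rfl⟩ := hu a ha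
    rwa [Units.mul_right_eq_zero] at hab⟩
  haveI : Nontrivial A := inferInstance
  haveI : IsDomain A := NoZeroDivisors.to_isDomain A
  haveI : Finite A := Module.finite_of_finite k
  have hcomm := (Finite.isDomain_to_isField A).mul_comm
  refine finrank_eq_one (R := k) (1 : A) one_ne_zero fun a => ?_
  have hmem : a ∈ Subalgebra.center k A := Subalgebra.mem_center_iff.2 fun b => hcomm b a
  rw [Algebra.IsCentral.center_eq_bot, Algebra.mem_bot] at hmem
  obtain ⟨c, rfl⟩ := hmem
  exact ⟨c, (Algebra.algebraMap_eq_smul_one c).symm⟩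

/-- Over a finite field Severi–Brauer varieties are split. -/
theorem exists_splitting_of_finite [Finite k] {X : Scheme.{u}} {f : X ⟶ Spec (CommRingCat.of k)} {K : Type u}
    [Field K] [Algebra k K] [FiniteDimensional k K] {n : ℕ} (e : BrSev.Splitting f K n) :
    ∃ ρ : X ⟶ CohB1.ProjSpace n k, IsIso ρ ∧ ρ ≫ CohB1.ProjSpace.toSpec n k = f := by
  haveI : Finite K := Module.finite_of_finite k
  haveI : IsGalois k K := inferInstance
  haveI : IsProper f := SBTaut.isProper_of_splitting e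
  letI : X.Over (Spec (CommRingCat.of k)) := ⟨f⟩
  haveI : IsProper (X ↘ Spec (CommRingCat.of k)) := ‹IsProper f›
  haveI := CurvLib.isNoetherian k (X := X)
  letI : (BrSev.bc f K).Over (Spec (CommRingCat.of K)) := ⟨BrSev.bcTo f K⟩
  haveI : IsProper (BrSev.bc f K ↘ Spec (CommRingCat.of K)) :=
    inferInstanceAs (IsProper (pullback.snd f (Spec.map (CommRingCat.ofHom (algebraMap k K)))))
  obtain ⟨d, hd, hM⟩ := KSMod.exists_twPow e e
  obtain ⟨M, hMf, ⟨t⟩⟩ := hM 1
  have hMc := Groth.Agent.PerfLib.isCoh_of_isFinLocFree hMf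
  haveI := KSMod.finite_hom (k := k) hMc hMc
  obtain ⟨s, Ms, hMi, -, ⟨eM⟩⟩ := KSMod.exists_decomp (k := k) M
  rcases Nat.eq_zero_or_pos s with hs | hs
  · exfalso
    subst hs
    have hZ : IsZero (BrSev.bcMod f K M) :=
      (Scheme.Modules.pullback (BrSev.proj f K)).map_isZero ((KSMod.isZero_of_isEmpty Ms).of_iso eM)
    obtain ⟨i⟩ : Nonempty (Fin d) := ⟨⟨0, hd⟩⟩
    refine (KSMod.indec_twist e 1).1 ((IsZero.iff_id_eq_zero _).2 ?_)
    have h := (hZ.of_iso t.symm).eq_of_src (Sigma.desc fun _ : Fin d => 𝟙 (e.twist 1)) 0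
    have h2 := congrArg (fun z => Sigma.ι (fun _ : Fin d => e.twist 1) i ≫ z) h
    simpa using h2
  let i : Fin s := ⟨0, hs⟩
  have hr : (biproduct.ι Ms i ≫ eM.inv) ≫ (eM.hom ≫ biproduct.π Ms i) = 𝟙 _ := by simp
  obtain ⟨Z, ⟨g⟩⟩ := KSMod.exists_biprod_of_retract _ _ hr
  let P := Scheme.Modules.pullback (BrSev.proj f K)
  haveI : PreservesBinaryBiproducts P := preservesBinaryBiproducts_of_preservesBinaryCoproducts P
  haveI := hMc.1
  have hWf := KSMod.isFinLocFree_of_retract _ _ hr hMf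
  haveI := (Groth.Agent.PerfLib.isCoh_of_isFinLocFree hWf).1
  obtain ⟨r, ⟨u⟩⟩ := KSMod.summand_pow (k := K) (ConsLib.isCoh_pullback (BrSev.proj f K) hMc) (KSMod.indec_twist e 1)
    (P.mapIso g ≪≫ P.mapBiprod _ _) t
  have hr0 : 0 < r := Nat.pos_of_ne_zero fun h0 => by
    subst h0
    exact (hMi i).1 (KSMod.isZero_of_isZero_pb (KSMod.bcSq f K) ((KSMod.isZero_pow_zero (e.twist 1)).of_iso u))
  have hWc := Groth.Agent.PerfLib.isCoh_of_isFinLocFree hWf
  obtain ⟨h1, h2, h3⟩ := SBTw.end_csa (KSMod.bcSq f K) rfl rfl hWc (bijective_smul_twist e 1 rfl) hr0 u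
  haveI := h1
  haveI := h2
  haveI : FiniteDimensional k (End (Ms i)) := KSMod.finite_hom hWc hWc
  rw [finrank_eq_one_of_indec fun a ha => KSMod.idem_end (hMi i) a ha] at h3
  obtain rfl : r = 1 := Nat.eq_one_of_mul_eq_one_right h3.symm
  obtain ⟨N, ρ, hN, hρ, hρf, -⟩ := exists_embedding f e (d := 1) one_pos
    (SBTaut.isInvertible_of_isTwPow_one e hWf ⟨u⟩) (by exact_mod_cast (⟨u⟩ : BrSev.IsTwPow e 1 1 (Ms i)))
  obtain rfl : N = n := by rw [Nat.choose_one_right] at hN; omega
  haveI : Nonempty (BrSev.bc f K) := ⟨e.iso.inv (GenusZeroLib.genPt K N)⟩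
  haveI : Nonempty X := ⟨BrSev.proj f K (Classical.arbitrary _)⟩
  haveI : IsFinite (BrSev.proj f K) := by
    haveI : IsFinite (Spec.map (CommRingCat.ofHom (algebraMap k K))) := by
      rw [IsFinite.SpecMap_iff]
      exact RingHom.finite_algebraMap.mpr inferInstance
    exact MorphismProperty.pullback_fst _ _ this
  haveI : Surjective (BrSev.proj f K) := (KSMod.bcSq f K).surjective_g
  refine ⟨ρ, GenusZeroLib.isIso_of_isClosedImmersion k N ρ ?_, hρf⟩
  rw [← AbSchLib.topologicalKrullDim_eq_of_finite_surjective (BrSev.proj f K), ← GenusZeroLib.dim_projSpace K N]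
  exact IsHomeomorph.topologicalKrullDim_eq _ e.iso.hom.homeomorph.isHomeomorph

end TwistEmbed
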