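import Groth.Agent.TwistEmbedLib.Ratio
import Groth.Agent.ProjSecLib.Gamma
import Groth.Agent.TwistLib.PtApp
import Groth.Agent.AmpleThLib.Ample

/-!
# The complete linear system of `O(d)` on projective space
-/

set_option autoImplicit false
set_option linter.style.haveILetI false
set_option backward.isDefEq.respectTransparency false
set_option backward.isDefEq.respectTransparency.types false
universe u

open CategoryTheory CategoryTheory.Limits AlgebraicGeometry TopologicalSpace Opposite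
open HomogeneousLocalization MvPolynomial
open AmpleLib (res)
open TwistLib (genSet)

noncomputable section

namespace TwistEmbed

variable {K : Type u} [Field K] {n d : ℕ}

local notation "𝒮" => CohB1.polyGrading n K

/-- A form as a global section of `O(d)`. -/
abbrev gsec (a : 𝒮 d) : Γ(Twist.twist 𝒮 (d : ℤ), ⊤) := Twist.globalOf 𝒮 a

theorem one_nin (x : Proj 𝒮) : (1 : MvPolynomial (Fin (n + 1)) K) ∉ x.asHomogeneousIdeal :=
  fun h => x.isPrime.ne_top ((Ideal.eq_top_iff_one _).mpr h)

theorem gsec_add (a b : 𝒮 d) : gsec (a + b) = gsec a + gsec b := by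
  refine TwistLib.sec_ext fun x => ?_
  show Localization.mk (_ + _ : MvPolynomial (Fin (n + 1)) K) _ = Localization.mk _ _ + Localization.mk _ _
  rw [Localization.add_mk_self]

theorem twist_invertible : PicF.IsInvertible (Twist.twist 𝒮 (d : ℤ)) :=
  TwistLib.twist_isInvertible 𝒮 (eq_top_iff.2 fun x _ => by
    obtain ⟨i, hi⟩ := ProjSecLib.cover x
    exact Opens.mem_iSup.2 ⟨⟨X i, ProjSecLib.X_mem i⟩, hi⟩) _

theorem genSet_gsec (a : 𝒮 d) :
    genSet twist_invertible (gsec a) = Proj.basicOpen 𝒮 (a : MvPolynomial (Fin (n + 1)) K) := by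
  ext x
  obtain ⟨i, hi⟩ := ProjSecLib.cover x
  let g : TwistLib.Unit' 𝒮 (d : ℤ) (Proj.basicOpen 𝒮 (X i)) :=
    ⟨d, 0, X i ^ d, 1, by simpa using SetLike.pow_mem_graded d (ProjSecLib.X_mem (R := K) i),
      SetLike.GradedOne.one_mem, by simp, fun y h => y.2 (y.1.isPrime.mem_of_pow_mem d h), fun y => one_nin y.1⟩
  exact TwistLib.genAt_globalOf 𝒮 a g hi

theorem gsec_genOn (a : 𝒮 d) :
    AmpleLib.GenOn (Twist.twist 𝒮 (d : ℤ))
      (res (Twist.twist 𝒮 (d : ℤ)) (le_top : Proj.basicOpen 𝒮 (a : MvPolynomial (Fin (n + 1)) K) ≤ ⊤) (gsec a)) :=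
  TwistLib.Unit'.genOn ⟨d, 0, (a : MvPolynomial (Fin (n + 1)) K), 1, a.2, SetLike.GradedOne.one_mem, by simp,
    fun x => x.2, fun x => one_nin x.1⟩

theorem frac_smul (t a : 𝒮 d) :
    (show Γ(Proj 𝒮, Proj.basicOpen 𝒮 (t : MvPolynomial (Fin (n + 1)) K)) from
      Proj.awayToSection 𝒮 (t : MvPolynomial (Fin (n + 1)) K)
        (Away.mk 𝒮 t.2 1 a (by rw [one_smul]; exact a.2))) •
      res (Twist.twist 𝒮 (d : ℤ)) (le_top : Proj.basicOpen 𝒮 (t : MvPolynomial (Fin (n + 1)) K) ≤ ⊤) (gsec t) =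
      res (Twist.twist 𝒮 (d : ℤ)) le_top (gsec a) := by
  classical
  refine TwistLib.sec_ext fun x => ?_
  rw [TwistLib.val_smul, TwistLib.val_res, TwistLib.val_res]
  erw [GrTildeLib.val_awayToSection]
  show Localization.mk _ _ * Localization.mk _ _ = Localization.mk _ _
  rw [Localization.mk_mul, Localization.mk_eq_mk_iff, Localization.r_iff_exists]
  exact ⟨1, by simp [mul_comm]⟩

theorem pow_eq (j : ℕ) : (𝒮 d) ^ j = 𝒮 (j * d) := by
  show (homogeneousSubmodule (Fin (n + 1)) K d) ^ j = homogeneousSubmodule (Fin (n + 1)) K (j * d)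
  have h : (homogeneousSubmodule (Fin (n + 1)) K 1) ^ d = homogeneousSubmodule (Fin (n + 1)) K d := homogeneousSubmodule_one_pow _ d
  rw [← h, ← pow_mul, homogeneousSubmodule_one_pow, mul_comm]

/-- The ratios of a spanning family of forms of degree `d` generate. -/
theorem ratioGen_proj (hd : 0 < d) {ι : Type*} (s : ι → 𝒮 d) (hs : Submodule.span K (Set.range s) = ⊤) (l₀ : ι) :
    RatioGen (CohB1.ProjSpace.toSpec n K) (L := Twist.twist 𝒮 (d : ℤ)) twist_invertible (fun l => gsec (s l)) l₀ := by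
  classical
  refine ratioGen_of_eq (genSet_gsec (s l₀)) ?_
  let σ : MvPolynomial (Fin (n + 1)) K := s l₀
  let V := Proj.basicOpen 𝒮 σ
  let q := CohB1.ProjSpace.toSpec n K
  let A : Subring Γ(Proj 𝒮, V) := Subring.closure (Set.range (q.appLE ⊤ V le_top) ∪
      {c | ∃ l, c • res (Twist.twist 𝒮 (d : ℤ)) (le_top : V ≤ ⊤) (gsec (s l₀)) = res _ le_top (gsec (s l))})
  let fr : ∀ (j : ℕ) (x : MvPolynomial (Fin (n + 1)) K), x ∈ 𝒮 (j * d) → Γ(Proj 𝒮, V) := fun j x hx =>
    Proj.awayToSection 𝒮 σ (Away.mk 𝒮 (s l₀).2 j x (by simpa using hx))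
  have hlin : ∀ a : 𝒮 d, a ∈ Submodule.span K (Set.range s) → ∃ c ∈ A,
      c • res (Twist.twist 𝒮 (d : ℤ)) (le_top : V ≤ ⊤) (gsec (s l₀)) = res _ le_top (gsec a) := by
    intro a ha
    induction ha using Submodule.span_induction with
    | mem a ha =>
      obtain ⟨l, rfl⟩ := ha
      exact ⟨_, Subring.subset_closure (Or.inr ⟨l, frac_smul (s l₀) (s l)⟩), frac_smul (s l₀) (s l)⟩
    | zero =>
      refine ⟨0, A.zero_mem, ?_⟩
      have h0 : gsec (0 : 𝒮 d) = 0 := by
        have h := gsec_add (0 : 𝒮 d) 0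
        rw [add_zero] at h
        exact add_eq_left.1 h.symm
      rw [zero_smul, h0]
      exact (map_zero ((Twist.twist 𝒮 (d : ℤ)).presheaf.map (homOfLE (le_top : V ≤ ⊤)).op).hom).symm
    | add a b _ _ iha ihb =>
      obtain ⟨c, hc, hc'⟩ := iha
      obtain ⟨c', hd', hd''⟩ := ihb
      refine ⟨c + c', A.add_mem hc hd', ?_⟩
      rw [add_smul, hc', hd'', gsec_add]
      exact (map_add ((Twist.twist 𝒮 (d : ℤ)).presheaf.map (homOfLE (le_top : V ≤ ⊤)).op).hom _ _).symm
    | smul r a _ iha =>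
      obtain ⟨c, hc, hc'⟩ := iha
      refine ⟨(show Γ(Proj 𝒮, V) from q.appLE ⊤ V le_top ((Scheme.ΓSpecIso (CommRingCat.of K)).inv r)) * c,
        A.mul_mem (Subring.subset_closure (Or.inl ⟨_, rfl⟩)) hc, ?_⟩
      rw [mul_smul, hc', ← NefH1Lib.toGlobal_res q r V]
      refine Eq.trans ?_ (congrArg (res _ le_top) (ProjSecLib.globalOf_smul r a)).symm
      exact (AmpleLib.res_smul _ le_top _ _).symm
  have hone : ∀ (a : MvPolynomial (Fin (n + 1)) K) (ha : a ∈ 𝒮 d), fr 1 a (by rwa [one_mul]) ∈ A := by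
    intro a ha
    obtain ⟨c, hc, hc'⟩ := hlin ⟨a, ha⟩ (hs ▸ Submodule.mem_top)
    have : fr 1 a (by rwa [one_mul]) = c := by
      refine (gsec_genOn (s l₀) V le_rfl).1 ?_
      dsimp only
      rw [AmpleLib.res_refl, hc']
      exact frac_smul (s l₀) ⟨a, ha⟩
    rw [this]; exact hc
  have hpow : ∀ (j : ℕ) (x : MvPolynomial (Fin (n + 1)) K) (hx : x ∈ 𝒮 (j * d)), fr j x hx ∈ A := by
    intro j
    induction j with
    | zero =>
      intro x hx
      have hxσ : x * σ ∈ 𝒮 d := by
        have := SetLike.mul_mem_graded hx (s l₀).2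
        simpa using this
      have : fr 0 x hx = fr 1 (x * σ) (by rwa [one_mul]) := by
        refine congrArg (Proj.awayToSection 𝒮 σ) (HomogeneousLocalization.val_injective _ ?_)
        rw [Away.val_mk, Away.val_mk, Localization.mk_eq_mk_iff, Localization.r_iff_exists]
        exact ⟨1, by simp [σ, mul_comm]⟩
      rw [this]; exact hone _ hxσ
    | succ j ih =>
      have key : ∀ x, x ∈ (𝒮 (j * d)) * 𝒮 d → ∀ hx : x ∈ 𝒮 ((j + 1) * d), fr (j + 1) x hx ∈ A := by
        intro x hx
        induction hx using Submodule.mul_induction_on' with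
        | mem_mul_mem a ha b hb =>
          intro hab
          have : fr (j + 1) (a * b) hab = fr j a ha * fr 1 b (by rwa [one_mul]) := by
            rw [← map_mul (Proj.awayToSection 𝒮 σ).hom]
            refine congrArg (Proj.awayToSection 𝒮 σ) (HomogeneousLocalization.val_injective _ ?_)
            rw [Away.val_mk, val_mul, Away.val_mk, Away.val_mk, Localization.mk_mul]
            congr 1
            exact Subtype.ext (by simp [pow_succ])
          rw [this]; exact A.mul_mem (ih a ha) (hone b hb)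
        | add a ha b hb iha ihb =>
          intro hab
          have hle : ∀ y, y ∈ (𝒮 (j * d)) * 𝒮 d → y ∈ 𝒮 ((j + 1) * d) := fun y hy => by
            rw [← pow_eq (d := d) (j + 1), pow_succ, pow_eq]; exact hy
          have : fr (j + 1) (a + b) hab = fr (j + 1) a (hle a ha) + fr (j + 1) b (hle b hb) := by
            rw [← map_add (Proj.awayToSection 𝒮 σ).hom]
            refine congrArg (Proj.awayToSection 𝒮 σ) (HomogeneousLocalization.val_injective _ ?_)
            rw [Away.val_mk, val_add, Away.val_mk, Away.val_mk, Localization.add_mk_self]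
          rw [this]; exact A.add_mem (iha (hle a ha)) (ihb (hle b hb))
      intro x hx
      refine key x ?_ hx
      rw [← pow_eq (d := d) j, ← pow_succ, pow_eq]
      exact hx
  show A = ⊤
  refine eq_top_iff.2 fun y _ => ?_
  obtain ⟨z, rfl⟩ := (ConcreteCategory.bijective_of_isIso (Proj.basicOpenIsoAway 𝒮 σ (s l₀).2 hd).hom).2 y
  obtain ⟨j, a, ha, rfl⟩ := Away.mk_surjective 𝒮 (s l₀).2 z
  exact hpow j a (by simpa using ha)

theorem isAffineOpen_genSet_gsec (hd : 0 < d) (a : 𝒮 d) :
    IsAffineOpen (genSet twist_invertible (gsec a)) := by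
  rw [genSet_gsec]
  exact Proj.isAffineOpen_basicOpen 𝒮 _ a.2 hd

theorem exists_genSet_mem {ι : Type*} (s : ι → 𝒮 d)
    (hs : Submodule.span K (Set.range s) = ⊤) (x : Proj 𝒮) : ∃ l, x ∈ genSet twist_invertible (gsec (s l)) := by
  simp only [genSet_gsec]
  by_contra! h
  obtain ⟨i, hi⟩ := ProjSecLib.cover x
  have hmem : ∀ a ∈ Submodule.span K (Set.range s), (a : MvPolynomial (Fin (n + 1)) K) ∈ x.asHomogeneousIdeal := by
    intro a ha
    induction ha using Submodule.span_induction with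
    | mem a ha => obtain ⟨l, rfl⟩ := ha; exact not_not.1 (h l)
    | zero => exact zero_mem _
    | add a b _ _ ha hb => exact add_mem ha hb
    | smul r a _ ha =>
      rw [Submodule.coe_smul, smul_eq_C_mul]
      exact Ideal.mul_mem_left x.asHomogeneousIdeal.toIdeal _ ha
  exact hi (x.isPrime.mem_of_pow_mem d (hmem ⟨X i ^ d, by simpa using SetLike.pow_mem_graded d (ProjSecLib.X_mem (R := K) i)⟩
    (hs ▸ Submodule.mem_top)))

end TwistEmbed
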