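import Groth.Agent.NefH1Lib.Embed
import Groth.Agent.AmpleDevLib.Pull
import Groth.Agent.SBTwLib.EndBC

/-!
# Sections whose ratios generate the functions on their loci

The condition is preserved by pullback along maps surjective on functions and descends along
extensions of the base field.
-/

set_option autoImplicit false
set_option linter.style.haveILetI false
set_option backward.isDefEq.respectTransparency false
set_option backward.isDefEq.respectTransparency.types false
universe u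

open CategoryTheory CategoryTheory.Limits AlgebraicGeometry TopologicalSpace Opposite
open HomogeneousLocalization AmpleLib
open TwistLib (genSet)
open KFlatLib (pb puSec)
open GLinBCLib

noncomputable section

namespace TwistEmbed

variable {X : Scheme.{u}} {R : Type u} [CommRing R] (q : X ⟶ Spec (CommRingCat.of R)) {L : X.Modules}
  (hL : PicF.IsInvertible L) {ι : Type*} (v : ι → Γ(L, ⊤))

/-- The functions on the locus of `v j` are generated by the constants and the ratios. -/
def RatioGen (j : ι) : Prop :=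
  Subring.closure (Set.range (q.appLE ⊤ (genSet hL (v j)) le_top) ∪
    {c | ∃ l, c • res L (le_top : genSet hL (v j) ≤ ⊤) (v j) = res L le_top (v l)}) = ⊤

variable {q hL v}

theorem ratioGen_of_eq {j : ι} {V : X.Opens} (hV : genSet hL (v j) = V)
    (h : Subring.closure (Set.range (q.appLE ⊤ V le_top) ∪
      {c | ∃ l, c • res L (le_top : V ≤ ⊤) (v j) = res L le_top (v l)}) = ⊤) : RatioGen q hL v j := by
  subst hV
  exact h

/-- Transport along a morphism that is surjective on functions over the locus. -/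
theorem RatioGen.transfer {j : ι} (h : RatioGen q hL v j) {Y : Scheme.{u}} {r : Y ⟶ X}
    {qY : Y ⟶ Spec (CommRingCat.of R)} (hr : r ≫ q = qY) {M : Y.Modules} (hM : PicF.IsInvertible M)
    (φ : pb r L ≅ M) {w : ι → Γ(M, ⊤)}
    (hw : ∀ l, w l = φ.hom.app ⊤ (puSec r (v l) : Γ(pb r L, ⊤)))
    (hs : Function.Surjective (r.app (genSet hL (v j)))) : RatioGen qY hM w j := by
  subst hr
  refine ratioGen_of_eq (V := r ⁻¹ᵁ genSet hL (v j)) ?_ ?_
  · rw [hw, AmpleThLib.genSet_iso (AmpleDevLib.isInvertible_pb r hL) hM φ]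
    exact AmpleDevLib.genSet_puSec r hL (v j)
  have hres : ∀ l, res M (le_top : r ⁻¹ᵁ genSet hL (v j) ≤ ⊤) (w l) =
      φ.hom.app _ (puSec r (res L (le_top : genSet hL (v j) ≤ ⊤) (v l))) := fun l => by
    refine (congrArg _ (hw l)).trans ((QCohLib.app_map φ.hom (homOfLE le_top) _).symm.trans ?_)
    exact congrArg (φ.hom.app _) (TwistLib.puSec_res r (le_top : genSet hL (v j) ≤ ⊤) (v l)).symm
  rw [eq_top_iff]
  intro y _
  obtain ⟨x, rfl⟩ := hs y
  suffices hle : Subring.closure (Set.range (q.appLE ⊤ (genSet hL (v j)) le_top) ∪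
      {c | ∃ l, c • res L (le_top : genSet hL (v j) ≤ ⊤) (v j) = res L le_top (v l)}) ≤
      Subring.comap (r.app (genSet hL (v j))).hom (Subring.closure
        (Set.range ((r ≫ q).appLE ⊤ (r ⁻¹ᵁ genSet hL (v j)) le_top) ∪
          {c | ∃ l, c • res M (le_top : r ⁻¹ᵁ genSet hL (v j) ≤ ⊤) (w j) = res M le_top (w l)})) from hle (h.ge (Subring.mem_top x))
  refine Subring.closure_le.mpr ?_
  rintro c (⟨a, rfl⟩ | ⟨l, hl⟩)
  · refine Subring.subset_closure (Or.inl ⟨a, ?_⟩)
    rw [← Scheme.Hom.appLE_comp_appLE r q ⊤ (genSet hL (v j)) (r ⁻¹ᵁ genSet hL (v j)) le_top le_rfl,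
      CommRingCat.comp_apply, Scheme.Hom.app_eq_appLE]
  · refine Subring.subset_closure (Or.inr ⟨l, ?_⟩)
    rw [hres, hres, ← hl, TwistLib.puSec_smul, Scheme.Modules.Hom.app_smul]

variable {k K : Type u} [Field k] [Field K] [Algebra k K] {Y : Scheme.{u}} (β : BC k K X Y)
  {κ : Type u} (e : Module.Basis κ k K)

theorem exists_comb_single [Nonempty κ] {U : X.Opens} (hc : IsCompact (U : Set X))
    (hs : IsQuasiSeparated (U : Set X)) (A : Subring Γ(X, U)) (hA : ∀ a, β.cX U a ∈ A)
    (c : K) {a : Γ(X, U)} (ha : a ∈ A) :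
    ∃ b : κ →₀ Γ(X, U), (∀ i, b i ∈ A) ∧ β.cY (β.g ⁻¹ᵁ U) c * β.g.app U a = β.comb e U b := by
  classical
  letI : X.Over (Spec (CommRingCat.of k)) := ⟨β.iX⟩
  letI : Y.Over (Spec (CommRingCat.of K)) := ⟨β.iY⟩
  refine ⟨(e.repr c).mapRange (fun t => β.cX U t * a) (by rw [map_zero, zero_mul]),
    fun i => by rw [Finsupp.mapRange_apply]; exact A.mul_mem (hA _) ha, ?_⟩
  conv_lhs => rw [← e.linearCombination_repr c]
  rw [Finsupp.linearCombination_apply]
  unfold BC.comb
  rw [Finsupp.sum_mapRange_index (fun i => by simp), map_finsuppSum, Finsupp.sum_mul]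
  refine Finsupp.sum_congr fun i _ => ?_
  rw [Algebra.smul_def, map_mul, map_mul, SBTw.app_cX]
  ring

/-- Descent of the condition along an extension of the base field. -/
theorem RatioGen.descend {q : X ⟶ Spec (CommRingCat.of k)} (hq : β.iX = q) {j : ι}
    (hV : IsAffineOpen (genSet hL (v j)))
    (h : RatioGen β.iY (AmpleDevLib.isInvertible_pb β.g hL) (fun l => (puSec β.g (v l) : Γ(pb β.g L, ⊤))) j) :
    RatioGen q hL v j := by
  classical
  subst hq
  letI : X.Over (Spec (CommRingCat.of k)) := ⟨β.iX⟩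
  letI : Y.Over (Spec (CommRingCat.of K)) := ⟨β.iY⟩
  let e := Module.Free.chooseBasis k K
  let V := genSet hL (v j)
  have hc := hV.isCompact
  have hs := hV.isQuasiSeparated
  let A := Subring.closure (Set.range (β.iX.appLE ⊤ V le_top) ∪
    {c | ∃ l, c • res L (le_top : V ≤ ⊤) (v j) = res L le_top (v l)})
  have hA : ∀ a, β.cX V a ∈ A := fun a => Subring.subset_closure (Or.inl ⟨_, rfl⟩)
  haveI : Nonempty (Module.Free.ChooseBasisIndex k K) := e.index_nonempty
  let P : Γ(Y, β.g ⁻¹ᵁ V) → Prop := fun y => ∃ b, (∀ i, b i ∈ A) ∧ y = β.comb e V b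
  let S : AddSubmonoid Γ(Y, β.g ⁻¹ᵁ V) :=
    AddSubmonoid.closure {y | ∃ (c : K) (a : Γ(X, V)), a ∈ A ∧ y = β.cY (β.g ⁻¹ᵁ V) c * β.g.app V a}
  have hSP : ∀ y ∈ S, P y := fun y hy => by
    induction hy using AddSubmonoid.closure_induction with
    | mem y hy =>
      obtain ⟨c, a, ha, rfl⟩ := hy
      exact exists_comb_single β e hc hs A hA c ha
    | zero => exact ⟨0, fun _ => A.zero_mem, (β.comb_zero e).symm⟩
    | add y z _ _ ihy ihz =>
      obtain ⟨b, hb, rfl⟩ := ihy
      obtain ⟨b', hb', rfl⟩ := ihz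
      refine ⟨b - -b', fun i => A.sub_mem (hb i) (A.neg_mem (hb' i)), ?_⟩
      have h0 := β.comb_sub e (U := V) 0 b'
      rw [zero_sub, β.comb_zero, zero_sub] at h0
      rw [β.comb_sub, h0, sub_neg_eq_add]
  have hgen : ∀ c a, a ∈ A → β.cY (β.g ⁻¹ᵁ V) c * β.g.app V a ∈ S := fun c a ha =>
    AddSubmonoid.subset_closure ⟨c, a, ha, rfl⟩
  have h1 : (1 : Γ(Y, β.g ⁻¹ᵁ V)) ∈ S := by simpa using hgen 1 1 A.one_mem
  have hneg : ∀ y ∈ S, -y ∈ S := fun y hy => by
    induction hy using AddSubmonoid.closure_induction with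
    | mem y hy =>
      obtain ⟨c, a, ha, rfl⟩ := hy
      simpa using hgen (-c) a ha
    | zero => simp
    | add y z _ _ ihy ihz => rw [neg_add]; exact S.add_mem ihy ihz
  have hmul : ∀ y ∈ S, ∀ z ∈ S, y * z ∈ S := fun y hy z hz => by
    induction hy using AddSubmonoid.closure_induction with
    | zero => simp
    | add y₁ y₂ _ _ ih₁ ih₂ => rw [add_mul]; exact S.add_mem ih₁ ih₂
    | mem y hy =>
      obtain ⟨c, a, ha, rfl⟩ := hy
      induction hz using AddSubmonoid.closure_induction with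
      | zero => simp
      | add z₁ z₂ _ _ ih₁ ih₂ => rw [mul_add]; exact S.add_mem ih₁ ih₂
      | mem z hz =>
        obtain ⟨c', a', ha', rfl⟩ := hz
        rw [mul_mul_mul_comm, ← map_mul, ← map_mul]
        exact hgen _ _ (A.mul_mem ha ha')
  let T : Subring Γ(Y, β.g ⁻¹ᵁ V) :=
    { carrier := S
      mul_mem' := fun ha hb => hmul _ ha _ hb
      one_mem' := h1
      add_mem' := S.add_mem
      zero_mem' := S.zero_mem
      neg_mem' := fun ha => hneg _ ha }
  have hTtop : T = ⊤ := by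
    have hVY : genSet (AmpleDevLib.isInvertible_pb β.g hL) (puSec β.g (v j) : Γ(pb β.g L, ⊤)) = β.g ⁻¹ᵁ V :=
      AmpleDevLib.genSet_puSec β.g hL (v j)
    have key : ∀ W (hW : genSet (AmpleDevLib.isInvertible_pb β.g hL) (puSec β.g (v j) : Γ(pb β.g L, ⊤)) = W),
        Subring.closure (Set.range (β.iY.appLE ⊤ W le_top) ∪
          {c | ∃ l, c • res _ (le_top : W ≤ ⊤) (puSec β.g (v j) : Γ(pb β.g L, ⊤)) =
            res _ le_top (puSec β.g (v l) : Γ(pb β.g L, ⊤))}) = ⊤ := by
      rintro W rfl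
      exact h
    refine eq_top_iff.2 ((key _ hVY).ge.trans (Subring.closure_le.2 ?_))
    rintro c (⟨a, rfl⟩ | ⟨l, hl⟩)
    · have hca : β.cY (β.g ⁻¹ᵁ V) ((Scheme.ΓSpecIso (CommRingCat.of K)).hom a) =
          β.iY.appLE ⊤ (β.g ⁻¹ᵁ V) le_top a := ?_
      · have h4 := hgen ((Scheme.ΓSpecIso (CommRingCat.of K)).hom a) 1 A.one_mem
        rw [map_one, mul_one, hca] at h4
        exact h4
      exact congrArg (β.iY.appLE ⊤ (β.g ⁻¹ᵁ V) le_top) (Iso.hom_inv_id_apply (Scheme.ΓSpecIso (CommRingCat.of K)) a)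
    · have hgV : GenOn L (res L (le_top : V ≤ ⊤) (v j)) :=
        TwistLib.genOn_of_genAt fun x hx => (genAt_res le_top _ hx).mpr hx
      obtain ⟨a, ha⟩ := (hgV V le_rfl).2 (res L le_top (v l))
      dsimp only at ha
      rw [AmpleLib.res_refl] at ha
      have hc' : c = β.g.app V a := by
        refine ((AmpleDevLib.puSec_genOn β.g hgV) _ le_rfl).1 ?_
        dsimp only
        rw [AmpleLib.res_refl]
        refine Eq.trans ?_ (TwistLib.puSec_smul β.g a (res L (le_top : V ≤ ⊤) (v j)))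
        rw [ha]
        exact (congrArg (c • ·) (TwistLib.puSec_res β.g (le_top : V ≤ ⊤) (v j))).trans
          (hl.trans (TwistLib.puSec_res β.g (le_top : V ≤ ⊤) (v l)).symm)
      have h2 := hgen 1 a (Subring.subset_closure (Or.inr ⟨l, ha⟩))
      rw [map_one, one_mul, ← hc'] at h2
      exact h2
  show A = ⊤
  refine eq_top_iff.2 fun a _ => ?_
  obtain ⟨b, hb, hab⟩ := hSP _ (show β.g.app V a ∈ T by rw [hTtop]; trivial)
  obtain ⟨b₀, -, hb₀⟩ := exists_comb_single β e hc hs ⊤ (fun _ => trivial) 1 (show a ∈ (⊤ : Subring _) from trivial)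
  obtain ⟨i, hi⟩ : ∃ i, e.repr 1 i ≠ 0 := by
    by_contra! h0
    exact one_ne_zero (e.repr.injective (show e.repr 1 = e.repr 0 by rw [map_zero]; exact Finsupp.ext h0))
  let b₁ := (e.repr 1).mapRange (fun t => β.cX V t * a) (by rw [map_zero, zero_mul])
  have hbb : b = b₁ := by
    refine β.comb_injective e hc hs ?_
    rw [← hab]
    unfold BC.comb
    rw [Finsupp.sum_mapRange_index (fun i => by simp)]
    conv_lhs => rw [← one_mul (β.g.app V a), ← map_one (β.cY (β.g ⁻¹ᵁ V)), ← e.linearCombination_repr 1]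
    rw [Finsupp.linearCombination_apply, map_finsuppSum, Finsupp.sum_mul]
    refine Finsupp.sum_congr fun i _ => ?_
    rw [Algebra.smul_def, map_mul, map_mul, SBTw.app_cX]
    ring
  have h3 := A.mul_mem (hA (e.repr 1 i)⁻¹) (hb i)
  rw [hbb, Finsupp.mapRange_apply, ← mul_assoc, ← map_mul, inv_mul_cancel₀ hi, map_one, one_mul] at h3
  exact h3

end TwistEmbed
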