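import Groth.Agent.TwistEmbedLib.Proj
import Groth.Agent.SBTwLib.EndBC
import Groth.Agent.SquareLib.BCSpan
import Groth.Agent.ProjSecLib.Hyperplane
import Groth.Agent.KSModLib.Coherent

/-!
# Sections of a module after extension of the base field
-/

set_option autoImplicit false
set_option linter.style.haveILetI false
set_option backward.isDefEq.respectTransparency false
set_option backward.isDefEq.respectTransparency.types false
universe u

open CategoryTheory CategoryTheory.Limits AlgebraicGeometry TopologicalSpace Opposite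
open KFlatLib (pb puSec)
open AmpleLib (res)
open GLinBCLib

noncomputable section

namespace TwistEmbed

variable {k K : Type u} [Field k] [Field K] [Algebra k K] {X Y : Scheme.{u}} (β : BC k K X Y)

theorem cX_top (a : k) : β.cX ⊤ a = NefH1Lib.gl β.iX a := by
  simp [BC.cX, NefH1Lib.gl, Coh.toGlobal, Scheme.Hom.appLE]; rfl

theorem res_cX {U : X.Opens} (a : k) : X.presheaf.map (homOfLE (le_top : U ≤ ⊤)).op (β.cX ⊤ a) = β.cX U a := by
  rw [← CommRingCat.hom_ofHom (β.cX U)]
  simp [BC.cX, Scheme.Hom.appLE]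

theorem sum_res {M : X.Modules} {ι : Type*} (s : Finset ι) (f : ι → Γ(M, ⊤)) (U : X.Opens) :
    res M (le_top : U ≤ ⊤) (∑ i ∈ s, f i) = ∑ i ∈ s, res M le_top (f i) :=
  map_sum (M.presheaf.map (homOfLE (le_top : U ≤ ⊤)).op).hom _ _

/-- The global sections of a coherent module on a proper scheme have a basis over the field. -/
theorem exists_sections_basis [IsProper β.iX] {L : X.Modules} (hL : Coh.IsCoh L) :
    ∃ (N : ℕ) (v : Fin N → Γ(L, ⊤)),
      (∀ σ : Γ(L, ⊤), ∃ c : Fin N → k, σ = ∑ l, NefH1Lib.gl β.iX (c l) • v l) ∧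
      ∀ c : Fin N → k, ∑ l, NefH1Lib.gl β.iX (c l) • v l = 0 → c = 0 := by
  letI : X.Over (Spec (CommRingCat.of k)) := ⟨β.iX⟩
  letI : Y.Over (Spec (CommRingCat.of K)) := ⟨β.iY⟩
  haveI : IsProper (X ↘ Spec (CommRingCat.of k)) := ‹IsProper β.iX›
  haveI := KSMod.finite_hom (k := k) (DevissLib.isCoh_structureModule X) hL
  let b := Module.finBasis k (Coh.structureModule X ⟶ L)
  let ev : (Coh.structureModule X ⟶ L) →+ Γ(L, ⊤) :=
    AddMonoidHom.mk' (fun φ => φ.app ⊤ (1 : Γ(X, ⊤))) fun _ _ => rfl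
  have hsmul : ∀ (a : k) φ, ev (a • φ) = NefH1Lib.gl β.iX a • ev φ := fun a φ => by
    show (a • φ).app ⊤ (1 : Γ(X, ⊤)) = NefH1Lib.gl β.iX a • φ.app ⊤ (1 : Γ(X, ⊤))
    rw [← cX_top β]
    exact SBTw.smulX_app β rfl a φ ⊤ _
  refine ⟨_, fun l => ev (b l), fun σ => ⟨fun l => b.repr (QCohLib.unitHom L σ) l, ?_⟩, fun c hc => ?_⟩
  · have h1 : ev (QCohLib.unitHom L σ) = σ := by
      show (QCohLib.unitHom L σ).app ⊤ (1 : Γ(X, ⊤)) = σ
      rw [QCohLib.unitHom_app]
      exact (one_smul Γ(X, ⊤) _).trans (congr($(L.presheaf.map_id _) σ))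
    conv_lhs => rw [← h1, ← b.sum_repr (QCohLib.unitHom L σ), map_sum]
    simp only [hsmul]
  · have h1 : ev (∑ l, c l • b l) = 0 := by simpa [map_sum, hsmul] using hc
    funext l
    exact Fintype.linearIndependent_iff.1 b.linearIndependent c (ProjSecLib.eq_zero_of_sec _ h1) l

theorem combM_single {κ : Type u} (e : Module.Basis κ k K) (M : X.Modules) (U : X.Opens) (c : K) (m : Γ(M, U)) :
    KSMod.combM β e M U ((e.repr c).mapRange (fun t => β.cX U t • m) (by rw [map_zero, zero_smul])) =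
      β.cY (β.g ⁻¹ᵁ U) c • puSec β.g m := by
  classical
  letI : X.Over (Spec (CommRingCat.of k)) := ⟨β.iX⟩
  letI : Y.Over (Spec (CommRingCat.of K)) := ⟨β.iY⟩
  conv_rhs => rw [← e.linearCombination_repr c]
  unfold KSMod.combM
  rw [Finsupp.sum_mapRange_index (fun i => by rw [KSMod.puSec_zero, smul_zero]), Finsupp.linearCombination_apply,
    map_finsuppSum]
  unfold Finsupp.sum
  rw [Finset.sum_smul]
  refine Finset.sum_congr rfl fun i _ => ?_
  dsimp only
  rw [TwistLib.puSec_smul, Algebra.smul_def, map_mul, SBTw.app_cX, smul_smul, mul_comm]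

open scoped Classical in
theorem combM_sum {κ : Type u} (e : Module.Basis κ k K) (M : X.Modules) (U : X.Opens) {ι : Type*} (s : Finset ι)
    (b : ι → (κ →₀ Γ(M, U))) : KSMod.combM β e M U (∑ i ∈ s, b i) = ∑ i ∈ s, KSMod.combM β e M U (b i) :=
  map_sum (AddMonoidHom.mk' (KSMod.combM β e M U) (KSMod.combM_add β e M U)) _ _

/-- Independent sections stay independent after extension of the base field. -/
theorem indep_puSec {L : X.Modules} [Coh.IsQCoh L] {ι : Type*} [Fintype ι] {v : ι → Γ(L, ⊤)}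
    (hv : ∀ c : ι → k, ∑ l, NefH1Lib.gl β.iX (c l) • v l = 0 → c = 0) (a : ι → K)
    (ha : ∑ l, β.cY ⊤ (a l) • (show Γ(pb β.g L, ⊤) from puSec β.g (v l)) = 0) : a = 0 := by
  classical
  let e := Module.Free.chooseBasis k K
  have key : ∀ i, ∑ l, NefH1Lib.gl β.iX (e.repr (a l) i) • v l = 0 := by
    intro i
    refine TopCat.Presheaf.section_ext ((QCohLib.toAbF X).obj L : TopCat.Sheaf AddCommGrpCat _) ⊤ _ _ fun p hp => ?_
    obtain ⟨U, hU, hpU, -⟩ := Opens.isBasis_iff_nbhd.mp X.isBasis_affineOpens hp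
    let bl : ι → _ := fun l => (e.repr (a l)).mapRange (fun t => β.cX U t • res L (le_top : U ≤ ⊤) (v l))
      (by rw [map_zero, zero_smul])
    have h1 : KSMod.combM β e L U (∑ l, bl l) = 0 := by
      rw [combM_sum]
      simp only [bl, combM_single]
      have h2 := congrArg (res (pb β.g L) (le_top : β.g ⁻¹ᵁ U ≤ ⊤)) ha
      rw [sum_res] at h2
      refine Eq.trans (Finset.sum_congr rfl fun l _ => ?_) (h2.trans
        (map_zero ((pb β.g L).presheaf.map (homOfLE (le_top : β.g ⁻¹ᵁ U ≤ ⊤)).op).hom))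
      refine Eq.trans ?_ (AmpleLib.res_smul _ _ _ _).symm
      exact congrArg₂ (· • ·) (β.rs_cY le_top _).symm (TwistLib.puSec_res β.g le_top (v l))
    have h3 : (∑ l, bl l) = 0 := (KSMod.combM_bijective β e L hU).1 (h1.trans (by simp [KSMod.combM]))
    have h4 := congrArg (fun z => z i) h3
    simp only [bl, Finsupp.finsetSum_apply, Finsupp.mapRange_apply, Finsupp.zero_apply] at h4
    have h5 : res L (le_top : U ≤ ⊤) (∑ l, NefH1Lib.gl β.iX (e.repr (a l) i) • v l) = 0 := by
      rw [sum_res, ← h4]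
      refine Finset.sum_congr rfl fun l _ => ?_
      rw [AmpleLib.res_smul, ← cX_top β, res_cX]
    exact ((DevissLib.gm_map L (le_top : U ≤ ⊤) p hpU _).symm.trans ((congrArg (DevissLib.gm L p hpU) h5).trans
      ((DevissLib.gm_zero L p hpU).trans (DevissLib.gm_zero L p hp).symm)) :)
  funext l
  refine e.repr.injective (Finsupp.ext fun i => ?_)
  rw [Pi.zero_apply, map_zero, Finsupp.zero_apply]
  exact congrFun (hv _ (key i)) l

/-- Sections after extension of the base field are combinations of the old ones. -/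
theorem span_puSec [IsProper β.iX] {L : X.Modules} [Coh.IsQCoh L] {ι : Type*} [Fintype ι] {v : ι → Γ(L, ⊤)}
    (hv : ∀ σ : Γ(L, ⊤), ∃ c : ι → k, σ = ∑ l, NefH1Lib.gl β.iX (c l) • v l) (t : Γ(pb β.g L, ⊤)) :
    ∃ a : ι → K, t = ∑ l, β.cY ⊤ (a l) • (show Γ(pb β.g L, ⊤) from puSec β.g (v l)) := by
  classical
  letI : X.Over (Spec (CommRingCat.of k)) := ⟨β.iX⟩
  letI : Y.Over (Spec (CommRingCat.of K)) := ⟨β.iY⟩
  haveI := β.flat_g
  haveI : Flat (Spec.map (CommRingCat.ofHom (algebraMap k K))) := by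
    rw [HasRingHomProperty.Spec_iff (P := @Flat)]
    exact RingHom.flat_algebraMap_iff.mpr inferInstance
  induction SquareLib.span_puSec_top β.sq L t using AddSubgroup.closure_induction with
  | mem x hx =>
    obtain ⟨b, σ, rfl⟩ := hx
    obtain ⟨c, rfl⟩ := hv σ
    let z : K := (Scheme.ΓSpecIso (CommRingCat.of K)).hom b
    refine ⟨fun l => z * algebraMap k K (c l), ?_⟩
    have hb : β.cY ⊤ z = β.iY.appTop b := by
      simp [z, BC.cY, Scheme.Hom.appLE]
    let P : Γ(L, ⊤) →+ Γ(pb β.g L, ⊤) := (((Scheme.Modules.pullbackPushforwardAdjunction β.g).unit.app L).app ⊤).hom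
    refine (congrArg (β.iY.appTop b • ·) (map_sum P _ _)).trans ?_
    rw [Finset.smul_sum]
    refine Finset.sum_congr rfl fun l _ => ?_
    rw [← hb, map_mul, mul_smul]
    refine congrArg (β.cY ⊤ z • ·) ((TwistLib.puSec_smul β.g _ _).trans ?_)
    refine congrArg (fun r : Γ(Y, ⊤) => r • (show Γ(pb β.g L, ⊤) from puSec β.g (v l))) ?_
    rw [← cX_top β, SBTw.app_cX]
    rfl
  | zero => exact ⟨0, by simp⟩
  | add x y _ _ hx hy =>
    obtain ⟨a, rfl⟩ := hx
    obtain ⟨b, rfl⟩ := hy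
    exact ⟨a + b, by simp [add_smul, Finset.sum_add_distrib]⟩
  | neg x _ hx =>
    obtain ⟨a, rfl⟩ := hx
    exact ⟨-a, by simp [neg_smul]⟩

end TwistEmbed
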